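import Cfsg.Agent.H0.TC
set_option maxRecDepth 100000
namespace H0.TCSz81
open H0
noncomputable def r0 : TC.WTr := (.node (.node (.node (.node (.node (.node (.leaf [1] 0 0 false) (.leaf [2, 5, 1, 2, 1, 4] 16 6 false)) (.leaf [5, 0, 3, 4, 0] 14 4 false)) (.node (.node (.leaf [2, 1, 4, 4, 2, 5] 16 2 false) (.leaf [0, 3, 4, 0, 2] 14 5 false)) (.leaf [4, 3, 5, 5, 5, 3, 3] 18 2 false))) (.node (.node (.node (.leaf [3, 4, 0, 2, 5] 14 0 false) (.leaf [4, 4, 4, 4, 4, 4] 6 0 false)) (.leaf [0, 4, 1, 2, 0] 9 4 true)) (.node (.node (.leaf [5, 5, 5, 1, 3, 5] 13 3 false) (.leaf [4] 4 1 false)) (.leaf [3, 3, 3, 3, 3, 3] 8 0 true)))) (.node (.node (.node (.node (.leaf [4, 3, 5, 5, 0, 3] 16 4 true) (.leaf [3, 5, 5, 5, 3, 3, 3] 18 3 false)) (.leaf [1, 4, 3, 1, 5] 14 4 true)) (.node (.node (.leaf [5, 2, 1, 4, 3] 14 2 true) (.leaf [5, 5, 1, 3, 5, 1] 13 4 false)) (.leaf [1, 5, 2, 1, 4] 14 1 true))) (.node (.node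 (.node (.leaf [1] 0 0 false) (.leaf [2, 1, 4, 3, 1] 14 3 true)) (.leaf [3] 2 0 false)) (.node (.leaf [0] 0 1 false) (.leaf [5] 4 0 false))))) (.node (.node (.node (.node (.node (.leaf [2, 0, 4, 1, 2] 9 3 true) (.leaf [4, 4, 0, 4, 2, 0] 13 0 true)) (.leaf [2, 2, 2, 2, 2, 2] 8 0 false)) (.node (.node (.leaf [3, 0, 5, 1, 3] 9 2 false) (.leaf [5, 5, 5, 5, 5, 5] 6 0 true)) (.leaf [1, 3, 0, 5, 1] 9 1 false))) (.node (.node (.node (.leaf [1] 0 0 false) (.leaf [4, 0, 4, 2, 0, 4] 13 1 true)) (.leaf [3] 2 0 false)) (.node (.leaf [3, 5, 1, 5, 5, 5] 13 0 false) (.leaf [2] 2 1 false)))) (.node (.node (.node (.node (.leaf [4, 1, 2, 0, 2] 9 5 true) (.leaf [2, 0, 4, 4, 4, 0] 13 4 true)) (.leaf [0, 2, 0, 4, 1] 9 2 true)) (.node (.node (.leaf [4, 4, 2, 5, 1, 2] 16 4 false) (.leaf [4] 4 1 false)) (.leaf [3, 3, 4, 3, 5, 5, 5] 18 0 false))) (.node (.node (.node (.leaf [1] 0 0 false) (.leaf [2, 1, 3, 1, 4, 0] 17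 2 true)) (.leaf [4, 1, 5, 0, 2, 0] 17 3 false)) (.node (.leaf [3] 2 0 false) (.leaf [2, 5, 2, 2, 2, 4, 4] 18 2 true))))))
noncomputable def r1 : TC.WTr := (.node (.node (.node (.node (.node (.node (.leaf [0, 0, 0] 7 0 false) (.leaf [4, 1, 4, 0, 3, 1] 15 5 false)) (.leaf [5, 1, 2, 1, 4, 4] 16 0 false)) (.node (.node (.leaf [3, 1, 3, 0, 5] 9 0 false) (.leaf [5, 0, 3, 0, 4, 3] 16 0 true)) (.leaf [3, 1, 4, 4, 4, 3, 5] 19 2 false))) (.node (.node (.node (.leaf [2, 5, 0, 3, 4] 14 3 false) (.leaf [0, 2, 5, 0, 3] 14 2 false)) (.leaf [1, 3, 1, 4, 0, 5] 17 3 true)) (.node (.node (.leaf [5, 0, 5, 5, 0, 2] 15 4 true) (.leaf [4] 4 1 false)) (.leaf [2] 2 1 false)))) (.node (.node (.node (.node (.leaf [4, 2, 0, 4, 4, 4] 13 3 true) (.leaf [0, 3, 1, 4, 4, 1] 15 1 false)) (.leaf [1, 5, 0, 5, 5, 0] 15 3 true)) (.node (.node (.leaf [1, 1, 1] 7 0 true) (.leaf [4] 4 1 false)) (.leaf [4, 0, 2, 5, 0] 14 1 false)))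 (.node (.node (.node (.leaf [1] 0 0 false) (.leaf [1, 3, 1, 3, 0] 9 5 false)) (.leaf [2] 2 1 false)) (.node (.leaf [0] 0 1 false) (.leaf [3, 1, 5, 2, 1] 14 0 true))))) (.node (.node (.node (.node (.node (.leaf [3, 1, 4, 4, 1, 4] 15 2 false) (.leaf [1, 5, 0, 2, 0, 3] 17 4 false)) (.leaf [1, 4, 4, 2, 5, 1] 16 3 false)) (.node (.node (.leaf [2, 0, 2, 0, 4] 9 1 true) (.leaf [0, 5, 5, 0, 2, 1] 15 5 true)) (.leaf [1, 4, 4, 1, 4, 0] 15 3 false))) (.node (.node (.node (.leaf [1] 0 0 false) (.leaf [4] 4 1 false)) (.leaf [3] 2 0 false)) (.node (.leaf [4, 0, 3, 1, 4, 4] 15 0 false) (.leaf [2] 2 1 false)))) (.node (.node (.node (.node (.leaf [5, 1, 3, 1, 3] 9 4 false) (.leaf [4, 4, 2, 5, 2, 2, 2] 18 0 true)) (.leaf [2, 4, 4, 4, 2, 5, 2] 18 6 true)) (.node (.node (.leaf [4, 3, 1, 5, 2] 14 5 true) (.leaf [4] 4 1 false)) (.leaf [5, 5, 0, 3, 0, 4] 16 6 true))) (.node (.node (.node (.leaf [0] 0 1 false) (.leaf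 [1, 2, 1, 4, 4, 2] 16 1 false)) (.leaf [0, 5, 1, 3, 1] 9 3 false)) (.node (.leaf [0, 4, 4, 4, 0, 4] 13 5 true) (.leaf [1, 2, 0, 2, 0] 9 0 true))))))
noncomputable def tS : Tr := (.leaf (nat_lit 0xfff3e25f5b95763c0b8fff9fe3be78b344eabdfffcb5bcd3f69eb681cbffdf6c7a5696963c0deffe376362ff64c8e8d1fff978d8d578dd44e9efffcb0abc366ffb6a6d7ffc6bd3f5c91c58ccbcffe48195aa06c6cf84b7ff12488894cdac52b53ffa949fa24a36a5657dffea9baa6fcbf049113ffe23e0c2a6a5d6ba6c7ff6ca690479518b4ab7ffae17d12e29f1bf11fffd554f94207804793fffe4f8472565f475154fff552236b9c592c17cfffa598792d4462f25a1ffe5dc1411907888b5cffeddd2e2e25c2ee4467ff7e89c10aa4e118ee7ff88b5dc57cbb2efcedffe18b2773422d8abbdffeda18788b63ea8d3d7ffc7a975bdaf32b622fff88a7657f15213d42bffcf91564cace0cf88affeee92d3b71127ed73fff4ec54486b2b52e227ff958662cad4a88952fffc44177460bdcac1aeffe535062e7352220f27ffb7221e363dc278f67ffa262764e84398d31dffd5590973c849d6087ffe8408910932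0218d37ff5462169b3684212cbff88555b2b89cc1e6f1ffe399a14a6216999a0ffe7189c085390985717ff348110632af1eead7ff844394b85352656d1ffdf62f51a21119b22fffe31eda14a4305d0227ff2b63d92e0f50883d3ff9a20866c88a0c72d9ffc219db3b69c196a5affeb9c798431e43c4787ff1de3195518d3ba10fff8ee33e538b10433bbffd2f8421da3b0758eaffe108748e81ce398637ff42a394211931c8423ff95c08238cad8e21c3ffc208e042e308a50dfffe378898dd08237088fff21c65c2091621636fff8da1b23606b841185ffc4b09512800049892ffe2444800011e23846fff11822c8408a20a003ff88911021c4300010bffc0000008810c21041))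
noncomputable def tJ : Tr := (.leaf (nat_lit 0x804342a21200144984800021280d5000212a0d42824e004891000d5c8601808ba81022826038580001212a0142822c50589180a08914008063002212826c3ad69180ab991420010100013080000aa602001048048200f101920100c00500718000a2506000092a0140800a41e80282a038000100080546018000a80e000000000d5282600000500001100d3100070500000005280d40806000a80282a00008008046302a02001200007100400486400005094120800308a602001101840282200000010000044001800088ca020012200002824200000100a01c8000002011012080000024020013000202826400000180809800000001000130800008260200100000028200000031800080002200110000028220004001000004400180018800008000002211000004000180008000000000000100800000200001ef00000))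
noncomputable def tQ : Tr := (.leaf (nat_lit 0x0))
noncomputable def tR : TC.WTr := (.node r0 r1)
def hl : List ℕ := [4, 5, 5, 4]
def B : List (List ℕ) := [[0, 1], [1, 0], [2, 3], [3, 2], [4, 5], [5, 4], [4, 4, 4, 4, 4, 4, 4], [0, 0, 0, 0], [2, 2, 2, 2, 2, 2, 2], [1, 3, 1, 3, 0, 5], [0, 2, 0, 2, 0, 2, 0, 2, 0, 2, 0, 2, 0, 2], [0, 2, 1, 3, 0, 2, 1, 3, 0, 2, 1, 3, 0, 2, 1, 3], [0, 3, 0, 3, 0, 3, 0, 3, 0, 3, 0, 3, 0, 3], [1, 3, 5, 1, 5, 5, 5], [0, 3, 4, 0, 2, 5], [1, 4, 0, 3, 1, 4, 4], [2, 5, 1, 2, 1, 4, 4], [0, 2, 0, 3, 4, 1, 5], [3, 3, 3, 4, 3, 5, 5, 5], [3, 5, 3, 3, 1, 4, 4, 4]]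
def subs : List (List ℕ) := [[4], [5]]
def ex : List (List ℕ) := []
def inv (x : ℕ) : ℕ := [1, 0, 3, 2, 5, 4].getD x 0
noncomputable def rS : ℕ → ℕ := rowOf tS (nat_lit 8) (nat_lit 255) (nat_lit 77) (nat_lit 151115727451828646838271)
noncomputable def rJ : ℕ → ℕ := rowOf tJ (nat_lit 8) (nat_lit 255) (nat_lit 40) (nat_lit 1099511627775)
noncomputable def C : TC.Cfg where
  S := look rS (nat_lit 11) (nat_lit 2047)
  J := look rJ (nat_lit 5) (nat_lit 31)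
  Q := lookQ tQ (nat_lit 8) (nat_lit 1) (nat_lit 1)
  R := tR.get
  hl := fun x => hl.contains x
  n := (nat_lit 64)
  M := (nat_lit 64)
  top := (nat_lit 1664)
  nl := (nat_lit 6)
  need := (nat_lit 6)
  nr := (nat_lit 15)
theorem k0 : TC.chkRange C 0 1 = true := by decide +kernel
theorem rows0 : ∀ c < (0 + 1) * 64, c < C.M → TC.chkRow C c = true :=
  TC.rows_step (TC.rows_zero C) k0
theorem main {G : Type*} [Group G] (g : ℕ → G) (hB : ∀ r ∈ B, ev g r = 1) (H : Subgroup G)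
    (hH : ∀ w ∈ subs, ev g w ∈ H) :
    H.relIndex (Subgroup.closure (g '' {x | x < 6})) ≠ 0 ∧
      H.relIndex (Subgroup.closure (g '' {x | x < 6})) ≤ 64 :=
  TC.index_le C B subs ex inv hl tR.hint rfl (by decide +kernel) (by decide +kernel)
    (TC.rows_done rows0 (by decide +kernel)) g hB H hH
end H0.TCSz81
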